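import Groth.Agent.Fano.K913.BadGeo
import Groth.Agent.Fano.K798.DimGeo
import Groth.Agent.Fano.K305.DimA

/-!
# General lines are not residual to double lines (S16526, job 441)

`not_subset`: a dimension count, comparing the lines of first type with a residual double line with the lines of second
type.
-/

set_option autoImplicit false

universe u

namespace K913.BadProper

open LefPen Groth.Agent.Lefpen.H703.ZOpen Groth.Agent.Lefpen.H703.Elim Module K714.Irr K714.Frames K470.Cur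
  K656.Trilin K714.Surf K714.PlaneFac K714.TypeConst K705.IncDef K913.Dbl K913.BadGeo

variable {k : Type u} [Field k]
variable {T : (Fin 5 → k) →ₗ[k] (Fin 5 → k) →ₗ[k] (Fin 5 → k) →ₗ[k] k}

/-- a nonzero Plücker coordinate -/
theorem exists_minor {y z : Fin 5 → k} (h : LinearIndependent k ![y, z]) : ∃ i j, y i * z j - y j * z i ≠ 0 := by
  by_contra hcon
  push Not at hcon
  obtain ⟨i, hi⟩ : ∃ i, y i ≠ 0 := by
    by_contra hc
    push Not at hc
    exact h.ne_zero 0 (funext hc)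
  have h1 := LinearIndependent.pair_iff.1 h (z i) (-(y i)) (by
    funext j
    have := hcon i j
    simp only [Pi.add_apply, Pi.smul_apply, smul_eq_mul, Pi.zero_apply]
    linear_combination -this)
  exact hi (neg_eq_zero.1 h1.2)

theorem KK_comb (hT : IsSym3 T) {y z r : Fin 5 → k} (hr : r ∈ KK T y z) (a b c d : k) :
    r ∈ KK T (a • y + b • z) (c • y + d • z) := by
  have h1 : a • y + b • z ∈ Submodule.span k {y, z} := Submodule.mem_span_pair.2 ⟨a, b, rfl⟩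
  have h2 : c • y + d • z ∈ Submodule.span k {y, z} := Submodule.mem_span_pair.2 ⟨c, d, rfl⟩
  exact mem_KK.2 ⟨tri_zero hT h1 h1 hr, tri_zero hT h1 h2 hr, tri_zero hT h2 h2 hr⟩

/-- frames of lines of first type and of their residual double lines, with matching coordinates -/
def Sig (T : (Fin 5 → k) →ₗ[k] (Fin 5 → k) →ₗ[k] (Fin 5 → k) →ₗ[k] k) (e : Fin 4 → Fin 5) :
    Set (((Fin 5 → k) × (Fin 5 → k)) × ((Fin 5 → k) × (Fin 5 → k))) :=
  {w | w.1 ∈ FR T ∧ w.2 ∈ FR T ∧ First T w.1.1 w.1.2 ∧ ¬ First T w.2.1 w.2.2 ∧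
    w.1.1 ∈ KK T w.2.1 w.2.2 ∧ w.1.2 ∈ KK T w.2.1 w.2.2 ∧
    (w.1.1 (e 0) = w.2.1 (e 2) ∧ w.1.1 (e 1) = w.2.1 (e 3) ∧ w.1.2 (e 0) = w.2.2 (e 2) ∧
      w.1.2 (e 1) = w.2.2 (e 3)) ∧ w.1.1 (e 0) * w.1.2 (e 1) - w.1.1 (e 1) * w.1.2 (e 0) ≠ 0}

theorem exists_sig (hT : IsSym3 T) {x p y₀ z₀ : Fin 5 → k} (hL : (x, p) ∈ FR T) (h1 : First T x p)
    (hL' : (y₀, z₀) ∈ FR T) (h2 : ¬ First T y₀ z₀) (hx : x ∈ KK T y₀ z₀) (hp : p ∈ KK T y₀ z₀) :
    ∃ e w, w ∈ Sig T e ∧ w.1 = (x, p) := by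
  obtain ⟨i, j, hij⟩ := exists_minor hL.1
  obtain ⟨i', j', hij'⟩ := exists_minor hL'.1
  simp only at hij hij'
  set D := y₀ i' * z₀ j' - y₀ j' * z₀ i' with hD
  set s := (x i * z₀ j' - x j * z₀ i') / D with hs
  set t := (x j * y₀ i' - x i * y₀ j') / D with ht
  set s' := (p i * z₀ j' - p j * z₀ i') / D with hs'
  set t' := (p j * y₀ i' - p i * y₀ j') / D with ht'
  have e1 : s * y₀ i' + t * z₀ i' = x i := by
    rw [hs, ht, div_mul_eq_mul_div, div_mul_eq_mul_div, ← add_div, div_eq_iff hij', hD]; ring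
  have e2 : s * y₀ j' + t * z₀ j' = x j := by
    rw [hs, ht, div_mul_eq_mul_div, div_mul_eq_mul_div, ← add_div, div_eq_iff hij', hD]; ring
  have e3 : s' * y₀ i' + t' * z₀ i' = p i := by
    rw [hs', ht', div_mul_eq_mul_div, div_mul_eq_mul_div, ← add_div, div_eq_iff hij', hD]; ring
  have e4 : s' * y₀ j' + t' * z₀ j' = p j := by
    rw [hs', ht', div_mul_eq_mul_div, div_mul_eq_mul_div, ← add_div, div_eq_iff hij', hD]; ring
  have hdet : s * t' - t * s' ≠ 0 := by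
    intro h
    apply hij
    rw [← e1, ← e2, ← e3, ← e4]
    linear_combination D * h
  refine ⟨![i, j, i', j'], ((x, p), (s • y₀ + t • z₀, s' • y₀ + t' • z₀)), ⟨hL, mem_FR hT hL' hdet, h1, ?_,
    KK_comb hT hx _ _ _ _, KK_comb hT hp _ _ _ _, ⟨?_, ?_, ?_, ?_⟩, ?_⟩, rfl⟩
  · intro h
    exact h2 (first_of_comb hT h rfl rfl)
  · simp only [Matrix.cons_val, Pi.add_apply, Pi.smul_apply, smul_eq_mul]
    exact e1.symm
  · simp only [Matrix.cons_val, Pi.add_apply, Pi.smul_apply, smul_eq_mul]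
    exact e2.symm
  · simp only [Matrix.cons_val, Pi.add_apply, Pi.smul_apply, smul_eq_mul]
    exact e3.symm
  · simp only [Matrix.cons_val, Pi.add_apply, Pi.smul_apply, smul_eq_mul]
    exact e4.symm
  · simp only [Matrix.cons_val]
    exact hij

/-- vectors of a line are determined by two coordinates -/
theorem eq_of_coord {x p u v : Fin 5 → k} {i j : Fin 5} (hd : x i * p j - x j * p i ≠ 0)
    (hu : u ∈ Submodule.span k {x, p}) (hv : v ∈ Submodule.span k {x, p}) (h1 : u i = v i) (h2 : u j = v j) :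
    u = v := by
  obtain ⟨a, b, rfl⟩ := Submodule.mem_span_pair.1 hu
  obtain ⟨c, d, rfl⟩ := Submodule.mem_span_pair.1 hv
  simp only [Pi.add_apply, Pi.smul_apply, smul_eq_mul] at h1 h2
  have ha : a = c := by
    have : (a - c) * (x i * p j - x j * p i) = 0 := by linear_combination p j * h1 - p i * h2
    exact sub_eq_zero.1 ((mul_eq_zero.1 this).resolve_right hd)
  have hb : b = d := by
    have : (b - d) * (x i * p j - x j * p i) = 0 := by linear_combination x i * h2 - x j * h1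
    exact sub_eq_zero.1 ((mul_eq_zero.1 this).resolve_right hd)
  rw [ha, hb]

theorem injOn_sig [IsAlgClosed k] [CharZero k] (hT : IsSym3 T) (hsm : SmoothOn T ⊤) (e : Fin 4 → Fin 5) :
    Set.InjOn Prod.snd (Sig T e) := by
  rintro ⟨⟨x, p⟩, ⟨y, z⟩⟩ ⟨a1, a2, a3, a4, a5, a6, ⟨a7, a8, a9, a10⟩, a11⟩ ⟨⟨x', p'⟩, ⟨y', z'⟩⟩
    ⟨b1, b2, b3, b4, b5, b6, ⟨b7, b8, b9, b10⟩, b11⟩ h
  simp only at a1 a2 a3 a4 a5 a6 a7 a8 a9 a10 a11 b1 b2 b3 b4 b5 b6 b7 b8 b9 b10 b11 h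
  obtain ⟨rfl, rfl⟩ := Prod.mk.inj h
  have hs := span_unique hT hsm a1 b1 a2 a5 a6 b5 b6 a3 b3 a4
  have hx : x ∈ Submodule.span k {x, p} := Submodule.subset_span (by simp)
  have hp : p ∈ Submodule.span k {x, p} := Submodule.subset_span (by simp)
  have hx' : x' ∈ Submodule.span k {x, p} := by rw [← hs]; exact Submodule.subset_span (by simp)
  have hp' : p' ∈ Submodule.span k {x, p} := by rw [← hs]; exact Submodule.subset_span (by simp)
  have h1 := eq_of_coord a11 hx hx' (a7.trans b7.symm) (a8.trans b8.symm)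
  have h2 := eq_of_coord a11 hp hp' (a9.trans b9.symm) (a10.trans b10.symm)
  rw [h1, h2]

section Loc

abbrev W4 (k : Type u) : Type u := ((Fin 5 → k) × (Fin 5 → k)) × ((Fin 5 → k) × (Fin 5 → k))

theorem pm1 : IsPolyMap k (fun w : W4 k => w.1.1) := pm_comp isPolyMap_fst isPolyMap_fst
theorem pm2 : IsPolyMap k (fun w : W4 k => w.1.2) := pm_comp isPolyMap_snd isPolyMap_fst
theorem pm3 : IsPolyMap k (fun w : W4 k => w.2.1) := pm_comp isPolyMap_fst isPolyMap_snd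
theorem pm4 : IsPolyMap k (fun w : W4 k => w.2.2) := pm_comp isPolyMap_snd isPolyMap_snd

/-- the closed conditions -/
def eqF (T : (Fin 5 → k) →ₗ[k] (Fin 5 → k) →ₗ[k] (Fin 5 → k) →ₗ[k] k) (e : Fin 4 → Fin 5) :
    Fin 18 → W4 k → k :=
  ![fun w => T w.1.1 w.1.1 w.1.1, fun w => T w.1.1 w.1.1 w.1.2, fun w => T w.1.1 w.1.2 w.1.2,
    fun w => T w.1.2 w.1.2 w.1.2, fun w => T w.2.1 w.2.1 w.2.1, fun w => T w.2.1 w.2.1 w.2.2,
    fun w => T w.2.1 w.2.2 w.2.2, fun w => T w.2.2 w.2.2 w.2.2,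
    fun w => T w.2.1 w.2.1 w.1.1, fun w => T w.2.1 w.2.2 w.1.1, fun w => T w.2.2 w.2.2 w.1.1,
    fun w => T w.2.1 w.2.1 w.1.2, fun w => T w.2.1 w.2.2 w.1.2, fun w => T w.2.2 w.2.2 w.1.2,
    fun w => w.1.1 (e 0) - w.2.1 (e 2), fun w => w.1.1 (e 1) - w.2.1 (e 3), fun w => w.1.2 (e 0) - w.2.2 (e 2),
    fun w => w.1.2 (e 1) - w.2.2 (e 3)]

theorem pf_eqF (e : Fin 4 → Fin 5) (i : Fin 18) : IsPolyFun k (eqF T e i) := by
  have c : ∀ {φ : W4 k → Fin 5 → k}, IsPolyMap k φ → ∀ j, IsPolyFun k (fun w => φ w j) := fun h j =>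
    (isPolyMap_pi.1 h) j
  fin_cases i
  · exact pf_tri T pm1 pm1 pm1
  · exact pf_tri T pm1 pm1 pm2
  · exact pf_tri T pm1 pm2 pm2
  · exact pf_tri T pm2 pm2 pm2
  · exact pf_tri T pm3 pm3 pm3
  · exact pf_tri T pm3 pm3 pm4
  · exact pf_tri T pm3 pm4 pm4
  · exact pf_tri T pm4 pm4 pm4
  · exact pf_tri T pm3 pm3 pm1
  · exact pf_tri T pm3 pm4 pm1
  · exact pf_tri T pm4 pm4 pm1
  · exact pf_tri T pm3 pm3 pm2
  · exact pf_tri T pm3 pm4 pm2
  · exact pf_tri T pm4 pm4 pm2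
  · exact pf_sub (c pm1 _) (c pm3 _)
  · exact pf_sub (c pm1 _) (c pm3 _)
  · exact pf_sub (c pm2 _) (c pm4 _)
  · exact pf_sub (c pm2 _) (c pm4 _)

/-- `Sig` is locally closed -/
theorem sig_loc (e : Fin 4 → Fin 5) : ∃ X O : Set (W4 k), IsZOpen k Xᶜ ∧ IsZOpen k O ∧ Sig T e = X ∩ O := by
  refine ⟨{w | (∀ i, eqF T e i w = 0) ∧ ¬ First T w.2.1 w.2.2},
    {w | LinearIndependent k ![w.1.1, w.1.2]} ∩ {w | LinearIndependent k ![w.2.1, w.2.2]} ∩
    {w | First T w.1.1 w.1.2} ∩ {w | w.1.1 (e 0) * w.1.2 (e 1) - w.1.1 (e 1) * w.1.2 (e 0) ≠ 0}, ?_, ?_, ?_⟩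
  · have o1 : IsZOpen k {w : W4 k | ∃ i, eqF T e i w ≠ 0} := isZOpen_compl_zeros fun i => pf_eqF e i
    have o2 : IsZOpen k {w : W4 k | First T w.2.1 w.2.2} :=
      zo_preimage (isZOpen_first (T := T)) (isPolyMap_snd (V := (Fin 5 → k) × (Fin 5 → k)))
    refine (isZOpen_congr fun w => ?_).1 (zo_union o1 o2)
    simp only [Set.mem_union, Set.mem_ofPred_eq, Set.mem_compl_iff, not_and_or, not_not, not_forall]
  · have c : ∀ {φ : W4 k → Fin 5 → k}, IsPolyMap k φ → ∀ j, IsPolyFun k (fun w => φ w j) := fun h j =>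
      (isPolyMap_pi.1 h) j
    refine zo_inter (zo_inter (zo_inter ?_ ?_) ?_) ?_
    · exact zo_preimage (isZOpen_indep (k := k)) (isPolyMap_fst (W := (Fin 5 → k) × (Fin 5 → k)))
    · exact zo_preimage (isZOpen_indep (k := k)) (isPolyMap_snd (V := (Fin 5 → k) × (Fin 5 → k)))
    · exact zo_preimage (isZOpen_first (T := T)) (isPolyMap_fst (W := (Fin 5 → k) × (Fin 5 → k)))
    · exact isZOpen_basic (pf_sub (pf_mul (c pm1 _) (c pm2 _)) (pf_mul (c pm1 _) (c pm2 _)))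
  · ext w
    constructor
    · rintro ⟨a1, a2, a3, a4, a5, a6, ⟨a7, a8, a9, a10⟩, a11⟩
      refine ⟨⟨?_, a4⟩, ⟨⟨a1.1, a2.1⟩, a3⟩, a11⟩
      intro i
      fin_cases i
      · exact a1.2.1
      · exact a1.2.2.1
      · exact a1.2.2.2.1
      · exact a1.2.2.2.2
      · exact a2.2.1
      · exact a2.2.2.1
      · exact a2.2.2.2.1
      · exact a2.2.2.2.2
      · exact (mem_KK.1 a5).1
      · exact (mem_KK.1 a5).2.1
      · exact (mem_KK.1 a5).2.2
      · exact (mem_KK.1 a6).1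
      · exact (mem_KK.1 a6).2.1
      · exact (mem_KK.1 a6).2.2
      · exact sub_eq_zero.2 a7
      · exact sub_eq_zero.2 a8
      · exact sub_eq_zero.2 a9
      · exact sub_eq_zero.2 a10
    · rintro ⟨⟨h, h4⟩, ⟨⟨h1, h2⟩, h3⟩, h5⟩
      exact ⟨⟨h1, h 0, h 1, h 2, h 3⟩, ⟨h2, h 4, h 5, h 6, h 7⟩, h3, h4, mem_KK.2 ⟨h 8, h 9, h 10⟩,
        mem_KK.2 ⟨h 11, h 12, h 13⟩, ⟨sub_eq_zero.1 (h 14), sub_eq_zero.1 (h 15), sub_eq_zero.1 (h 16),
          sub_eq_zero.1 (h 17)⟩, h5⟩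

end Loc

/-- general lines are not residual to double lines -/
theorem not_subset [IsAlgClosed k] [CharZero k] (hT : IsSym3 T) (hsm : SmoothOn T ⊤)
    (hfirst : ∃ x p, (x, p) ∈ FR T ∧ First T x p) : ∃ x p, (x, p) ∈ FR T ∧ First T x p ∧ NoDbl T x p := by
  have hinf : Infinite k := IsAlgClosed.instInfinite
  by_contra hcon
  push Not at hcon
  obtain ⟨x₀, p₀, hL₀, hF₀⟩ := hfirst
  have hirr := frames_irr hT hsm
  -- every first type frame has a partner
  have hpart : ∀ x p, (x, p) ∈ FR T → First T x p → ∃ e w, w ∈ Sig T e ∧ w.1 = (x, p) := by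
    intro x p hL hF
    have h1 := hcon x p hL hF
    unfold NoDbl at h1
    push Not at h1
    obtain ⟨q, hq, l, m, n, H⟩ := h1
    obtain ⟨y, z, g1, g2, g3, g4⟩ := exists_residual hT hL hF hq ((sq_iff hT hL q l m n).1 H)
    exact exists_sig hT hL hF g1 g2 g3 g4
  set S := FR T with hS
  set F1 := S ∩ {z | First T z.1 z.2} with hF1
  set F2 := S ∩ {z | ¬ First T z.1 z.2} with hF2
  -- the key transfer
  have key : ∀ d, DimGE k S d → DimGE k F2 d := by
    intro d hd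
    have hd1 : DimGE k F1 d := K305.DimA.DimGE.inter_open hirr (isZOpen_first (T := T)) ⟨_, hL₀, hF₀⟩ hd
    obtain ⟨e, he⟩ : ∃ e, DimGE k (Sig T e) d := by
      by_contra hno
      push Not at hno
      rcases d with _ | d
      · obtain ⟨e, w, hw, -⟩ := hpart x₀ p₀ hL₀ hF₀
        exact hno e ⟨fun _ => 0, isPolyMap_const _, fun O _ hne => by
          obtain ⟨o, ho⟩ := hne
          exact ⟨w, hw, by rwa [Subsingleton.elim (0 : Fin 0 → k) o]⟩⟩
      · have h1 : ∀ e ∈ (Set.univ : Set (Fin 4 → Fin 5)), DimLE k (Prod.fst '' Sig T e) d :=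
          fun e _ => K305.DimA.DimLE.image (hno e) isPolyMap_fst
        have h2 := K305.DimA.dimLE_biUnion Set.finite_univ h1
        refine h2 (K305.DimA.DimGE.mono ?_ hd1)
        rintro ⟨x, p⟩ ⟨hL, hF⟩
        obtain ⟨e, w, hw, hw1⟩ := hpart x p hL hF
        exact Set.mem_biUnion (Set.mem_univ e) ⟨w, hw, hw1⟩
    obtain ⟨X, O, hX, hO, hXO⟩ := sig_loc (T := T) e
    have h3 : DimGE k (Prod.snd '' Sig T e) d := by
      have hinj := injOn_sig hT hsm e
      rw [hXO] at he hinj ⊢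
      exact K798.Dim.DimGE.image_of_injOn hX hO isPolyMap_snd hinj he
    refine K305.DimA.DimGE.mono ?_ h3
    rintro _ ⟨w, hw, rfl⟩
    exact ⟨hw.2.1, hw.2.2.2.1⟩
  -- a polynomial function vanishing on the second type frames
  obtain ⟨g, hg, hg0, hg1⟩ := isZOpen_first (T := T) (x₀, p₀) hF₀
  have step : ∀ d, DimGE k S d → DimGE k S (d + 1) := by
    intro d hd
    refine K305.DimA.dimGE_succ hirr (S' := F2) Set.inter_subset_left hg (fun s hs => ?_) hL₀ hg0 (key d hd)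
    by_contra hne
    exact hs.2 (hg1 s hne)
  have hall : ∀ d, DimGE k S d := by
    intro d
    induction d with
    | zero =>
      exact ⟨fun _ => 0, isPolyMap_const _, fun O _ hne => by
        obtain ⟨o, ho⟩ := hne
        exact ⟨(x₀, p₀), hL₀, by rwa [Subsingleton.elim (0 : Fin 0 → k) o]⟩⟩
    | succ d ih => exact step d ih
  have hb := K305.DimA.dimLE_submodule (k := k) (⊤ : Submodule k ((Fin 5 → k) × (Fin 5 → k)))
  exact hb (K305.DimA.DimGE.mono (fun _ _ => trivial) (hall _))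

/-- assembly of the statement about general lines -/
theorem exists_irr_inc_of [IsAlgClosed k] [CharZero k] (hT : IsSym3 T) (hsm : SmoothOn T ⊤)
    (hfirst : ∃ x p, (x, p) ∈ FR T ∧ First T x p)
    (hcore : ∀ x p : Fin 5 → k, (x, p) ∈ FR T → First T x p → NoDbl T x p → Irr k (Inc T x p)) :
    ∃ B : Set ((Fin 5 → k) × (Fin 5 → k)), IsZOpen k Bᶜ ∧
      (∀ x p : Fin 5 → k, (x, p) ∈ FR T → (x, p) ∈ B → ∀ a b c d : k, a * d - b * c ≠ 0 →
        (a • x + b • p, c • x + d • p) ∈ B) ∧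
      ¬ FR T ⊆ B ∧ ∀ x p : Fin 5 → k, (x, p) ∈ FR T → (x, p) ∉ B → Irr k (Inc T x p) := by
  refine ⟨(Gd T)ᶜ, ?_, ?_, ?_, ?_⟩
  · rw [compl_compl]
    exact isZOpen_gd hT
  · intro x p hL hB a b c d hd h
    exact hB (gd_of_comb hT hL hd h)
  · obtain ⟨x, p, hL, h1, h2⟩ := not_subset hT hsm hfirst
    intro h
    exact h hL ⟨hL.1, fun _ => ⟨h1, h2⟩⟩
  · intro x p hL hB
    rw [Set.mem_compl_iff, not_not] at hB
    exact hcore x p hL (hB.2 hL).1 (hB.2 hL).2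

end K913.BadProper
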