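import Groth.Agent.Fano.K913.Dbl

/-!
# The residual double line determines the plane (S16526, job 441)

`KK T y z`: the vectors `r` with `T (y, y, r) = T (y, z, r) = T (z, z, r) = 0` (the plane tangent to the cubic along
`⟨y, z⟩`, for `⟨y, z⟩` of second type).
-/

set_option autoImplicit false

universe u

namespace K913.BadGeo

open LefPen Groth.Agent.Lefpen.H703.ZOpen Groth.Agent.Lefpen.H703.Elim Module K714.Irr K714.Frames K470.Cur
  K656.Trilin K714.Surf K714.PlaneFac K714.TypeConst K705.IncDef K913.Dbl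

variable {k : Type u} [Field k]
variable {T : (Fin 5 → k) →ₗ[k] (Fin 5 → k) →ₗ[k] (Fin 5 → k) →ₗ[k] k}

/-- three independent functionals on `k^5` have no three independent common zeros -/
theorem no_three {r : Fin 3 → (Fin 5 → k)} {φ : Fin 3 → (Fin 5 → k) →ₗ[k] k} (hφ : LinearIndependent k φ)
    (hr : LinearIndependent k r) (h : ∀ i j, φ i (r j) = 0) : False := by
  have h1 := Subspace.finrank_add_finrank_dualAnnihilator_eq (K := k) (V := Fin 5 → k) (Submodule.span k (Set.range r))
  have h0 := finrank_span_eq_card hr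
  have h2 := finrank_span_eq_card hφ
  rw [Fintype.card_fin] at h0 h2
  rw [h0, finrank_fin_fun] at h1
  have h3 : Submodule.span k (Set.range φ) ≤ (Submodule.span k (Set.range r)).dualAnnihilator := by
    rw [Submodule.span_le]
    rintro _ ⟨i, rfl⟩
    rw [SetLike.mem_coe, Submodule.mem_dualAnnihilator]
    intro w hw
    have : Submodule.span k (Set.range r) ≤ LinearMap.ker (φ i) := by
      rw [Submodule.span_le]
      rintro _ ⟨j, rfl⟩
      exact h i j
    exact this hw
  have h4 := Submodule.finrank_mono h3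
  rw [h2] at h4
  have h5 : (3 : ℕ) ≤ 2 := h4.trans (le_of_eq (Nat.add_left_cancel (n := 3) (k := 2) h1))
  omega

/-- the tangent plane along a line of second type -/
noncomputable def KK (T : (Fin 5 → k) →ₗ[k] (Fin 5 → k) →ₗ[k] (Fin 5 → k) →ₗ[k] k) (y z : Fin 5 → k) :
    Submodule k (Fin 5 → k) := LinearMap.ker (T y y) ⊓ LinearMap.ker (T y z) ⊓ LinearMap.ker (T z z)

theorem mem_KK {y z r : Fin 5 → k} : r ∈ KK T y z ↔ T y y r = 0 ∧ T y z r = 0 ∧ T z z r = 0 := by
  simp [KK, and_assoc]

theorem span_pair_eq {x p : Fin 5 → k} : Submodule.span k (Set.range ![x, p]) = Submodule.span k {x, p} := by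
  rw [Matrix.range_cons, Matrix.range_cons, Matrix.range_empty, Set.union_empty, Set.singleton_union]

theorem finrank_pair {x p : Fin 5 → k} (h : LinearIndependent k ![x, p]) :
    finrank k ↥(Submodule.span k {x, p}) = 2 := by
  rw [← span_pair_eq, finrank_span_eq_card h, Fintype.card_fin]

/-- all products of two vectors of the line vanish on `KK` -/
theorem tri_zero (hT : IsSym3 T) {y z : Fin 5 → k} {u v r : Fin 5 → k} (hu : u ∈ Submodule.span k {y, z})
    (hv : v ∈ Submodule.span k {y, z}) (hr : r ∈ KK T y z) : T u v r = 0 := by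
  obtain ⟨a, b, rfl⟩ := Submodule.mem_span_pair.1 hu
  obtain ⟨c, d, rfl⟩ := Submodule.mem_span_pair.1 hv
  obtain ⟨h1, h2, h3⟩ := mem_KK.1 hr
  have h4 : T z y r = 0 := by rw [hT.s12]; exact h2
  simp only [map_add, map_smul, LinearMap.add_apply, LinearMap.smul_apply, smul_eq_mul, h1, h2, h3, h4]
  ring

theorem line_le_KK (hT : IsSym3 T) {y z : Fin 5 → k} (hL : (y, z) ∈ FR T) : Submodule.span k {y, z} ≤ KK T y z := by
  obtain ⟨-, h1, h2, h3, h4⟩ := hL
  simp only at h1 h2 h3 h4
  rw [Submodule.span_le]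
  rintro w (rfl | hw)
  · refine mem_KK.2 ⟨h1, ?_, ?_⟩
    · rw [hT.s23]; exact h2
    · rw [hT.rot' z z w]; exact h3
  · rw [Set.mem_singleton_iff.1 hw]
    exact mem_KK.2 ⟨h2, h3, h4⟩

theorem line_zero (hT : IsSym3 T) {y z : Fin 5 → k} (hL : (y, z) ∈ FR T) {u v w : Fin 5 → k}
    (hu : u ∈ Submodule.span k {y, z}) (hv : v ∈ Submodule.span k {y, z}) (hw : w ∈ Submodule.span k {y, z}) :
    T u v w = 0 := tri_zero hT hu hv (line_le_KK hT hL hw)

/-- the tangent spaces along a line meet in at most a plane -/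
theorem finrank_KK_le [IsAlgClosed k] [CharZero k] (hT : IsSym3 T) (hsm : SmoothOn T ⊤) {y z : Fin 5 → k}
    (hL : (y, z) ∈ FR T) : finrank k ↥(KK T y z) ≤ 3 := by
  let Φ : (Fin 5 → k) →ₗ[k] (Fin 3 → k) := LinearMap.pi ![T y y, T y z, T z z]
  have hker : LinearMap.ker Φ = KK T y z := by
    ext r
    rw [LinearMap.mem_ker, mem_KK]
    constructor
    · intro h
      exact ⟨congrFun h 0, congrFun h 1, congrFun h 2⟩
    · rintro ⟨h1, h2, h3⟩
      funext i
      fin_cases i
      · exact h1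
      · exact h2
      · exact h3
  have hrn := LinearMap.finrank_range_add_finrank_ker Φ
  rw [hker, finrank_fin_fun] at hrn
  by_contra hcon
  have h1 : finrank k ↥(LinearMap.range Φ) ≤ 1 := by omega
  obtain ⟨⟨v, hv⟩, hv1⟩ := finrank_le_one_iff.1 h1
  obtain ⟨s, t, hst, hq⟩ := exists_quad_zero (v 0) (2 * v 1) (v 2)
  have hne : s • y + t • z ≠ 0 := by
    intro h
    have := LinearIndependent.pair_iff.1 hL.1 s t h
    rcases hst with h | h
    · exact h this.1
    · exact h this.2
  have hmem : s • y + t • z ∈ Submodule.span k {y, z} := Submodule.mem_span_pair.2 ⟨s, t, rfl⟩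
  obtain ⟨w, -, hw⟩ := hsm (s • y + t • z) trivial hne (line_zero hT hL hmem hmem hmem)
  apply hw
  rw [hT.sq_smul_add_smul]
  obtain ⟨c, hc⟩ := hv1 ⟨Φ w, ⟨w, rfl⟩⟩
  have hc' : c • v = Φ w := congrArg Subtype.val hc
  have e0 : T y y w = c * v 0 := (congrFun hc' 0).symm
  have e1 : T y z w = c * v 1 := (congrFun hc' 1).symm
  have e2 : T z z w = c * v 2 := (congrFun hc' 2).symm
  rw [e0, e1, e2]
  linear_combination c * hq

/-- the zeros of the cubic in the plane `KK` spanned by the lines `⟨x, p⟩` and `⟨y, z⟩` -/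
theorem zero_in_KK [IsAlgClosed k] [CharZero k] (hT : IsSym3 T) (hsm : SmoothOn T ⊤) {x p y z : Fin 5 → k}
    (hL : (x, p) ∈ FR T) (hL' : (y, z) ∈ FR T) (hx : x ∈ KK T y z) (hp : p ∈ KK T y z)
    (hne : Submodule.span k {x, p} ≠ Submodule.span k {y, z}) {r : Fin 5 → k} (hr : r ∈ KK T y z)
    (h0 : T r r r = 0) : r ∈ Submodule.span k {x, p} ∨ r ∈ Submodule.span k {y, z} := by
  set L := Submodule.span k {x, p} with hLd
  set L' := Submodule.span k {y, z} with hLd'
  have fL : finrank k ↥L = 2 := finrank_pair hL.1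
  have fL' : finrank k ↥L' = 2 := finrank_pair hL'.1
  have hLK : L ≤ KK T y z := by
    rw [hLd, Submodule.span_le]
    rintro w (rfl | hw)
    · exact hx
    · rw [Set.mem_singleton_iff.1 hw]; exact hp
  have hLK' : L' ≤ KK T y z := line_le_KK hT hL'
  have fK := finrank_KK_le hT hsm hL'
  have hsum := Submodule.finrank_sup_add_finrank_inf_eq L L'
  rw [fL, fL'] at hsum
  have hinf : finrank k ↥(L ⊓ L') ≤ 1 := by
    by_contra hcon
    apply hne
    have h1 : L ⊓ L' = L := Submodule.eq_of_le_of_finrank_le inf_le_left (by omega)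
    have h2 : L ⊓ L' = L' := Submodule.eq_of_le_of_finrank_le inf_le_right (by omega)
    rw [← h1, h2]
  have hle : L ⊔ L' ≤ KK T y z := sup_le hLK hLK'
  have hm := Submodule.finrank_mono hle
  have hK : L ⊔ L' = KK T y z := Submodule.eq_of_le_of_finrank_le hle (by omega)
  have hK3 : finrank k ↥(KK T y z) = 3 := by rw [← hK] at fK ⊢; omega
  have hi1 : finrank k ↥(L ⊓ L') = 1 := by omega
  rw [← hK] at hr
  obtain ⟨s, hs, s', hs', rfl⟩ := Submodule.mem_sup.1 hr
  by_cases hsL' : s ∈ L'
  · exact Or.inr (add_mem hsL' hs')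
  by_cases hsL : s' ∈ L
  · exact Or.inl (add_mem hs hsL)
  exfalso
  have h2 : T s s s' = 0 := by
    rw [hT.cube_add, line_zero hT hL hs hs hs, line_zero hT hL' hs' hs' hs',
      hT.rot s s' s', tri_zero hT hs' hs' (hLK hs)] at h0
    have h3 : (3 : k) ≠ 0 := by norm_num
    have : (3 : k) * T s s s' = 0 := by linear_combination h0
    exact (mul_eq_zero.1 this).resolve_left h3
  have hibot : L ⊓ L' ≠ ⊥ := by
    intro h
    rw [h, finrank_bot] at hi1
    omega
  obtain ⟨w, ⟨hwL, hwL'⟩, hw0⟩ := Submodule.exists_mem_ne_zero_of_ne_bot hibot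
  -- `L = ⟨w, s⟩`, `L' = ⟨w, s'⟩`
  have hpair : ∀ {M : Submodule k (Fin 5 → k)} {u : Fin 5 → k} (N : Submodule k (Fin 5 → k)), finrank k ↥M = 2 →
      w ∈ M → u ∈ M → w ∈ N → u ∉ N → Submodule.span k {w, u} = M := by
    intro M u N hM hwM huM hwN huN
    have hli : LinearIndependent k ![w, u] := by
      rw [LinearIndependent.pair_iff]
      intro a b hab
      have hb : b = 0 := by
        by_contra hb
        apply huN
        have : u = (-(b⁻¹ * a)) • w := by
          have h1 : b • u = (-a) • w := by rw [neg_smul]; exact eq_neg_of_add_eq_zero_right hab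
          calc u = b⁻¹ • (b • u) := by rw [smul_smul, inv_mul_cancel₀ hb, one_smul]
            _ = _ := by rw [h1, smul_smul]; congr 1; ring
        rw [this]
        exact Submodule.smul_mem _ _ hwN
      rw [hb, zero_smul, add_zero] at hab
      exact ⟨(smul_eq_zero.1 hab).resolve_right hw0, hb⟩
    refine Submodule.eq_of_le_of_finrank_eq ?_ (by rw [finrank_pair hli, hM])
    rw [Submodule.span_le]
    rintro v (rfl | hv)
    · exact hwM
    · rw [Set.mem_singleton_iff.1 hv]; exact huM
  have hLs := hpair L' fL hwL hs hwL' hsL'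
  have hLs' := hpair L fL' hwL' hs' hwL hsL
  refine no_plane hT (by simp) hsm hK3 fun v hv => ?_
  rw [← hK] at hv
  obtain ⟨u, hu, u', hu', rfl⟩ := Submodule.mem_sup.1 hv
  rw [hT.cube_add, line_zero hT hL hu hu hu, line_zero hT hL' hu' hu' hu', hT.rot u u' u',
    tri_zero hT hu' hu' (hLK hu)]
  have h5 : T u u u' = 0 := by
    rw [← hLs] at hu
    rw [← hLs'] at hu'
    obtain ⟨a, b, rfl⟩ := Submodule.mem_span_pair.1 hu
    obtain ⟨c, d, rfl⟩ := Submodule.mem_span_pair.1 hu'
    have k1 : T w w w = 0 := line_zero hT hL hwL hwL hwL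
    have k2 : T w w s' = 0 := line_zero hT hL' hwL' hwL' hs'
    have k3 : T w s w = 0 := line_zero hT hL hwL hs hwL
    have k4 : T w s s' = 0 := by rw [hT.s23]; exact tri_zero hT hwL' hs' (hLK hs)
    have k5 : T s w w = 0 := line_zero hT hL hs hwL hwL
    have k6 : T s w s' = 0 := by rw [hT.s12]; exact k4
    have k7 : T s s w = 0 := line_zero hT hL hs hs hwL
    simp only [map_add, map_smul, LinearMap.add_apply, LinearMap.smul_apply, smul_eq_mul, k1, k2, k3, k4, k5,
      k6, k7, h2]
    ring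
  rw [h5]
  ring

/-- membership in the span gives frames -/
theorem first_of_span (hT : IsSym3 T) {x p y z : Fin 5 → k} (h : First T x p)
    (hs : Submodule.span k {x, p} = Submodule.span k {y, z}) : First T y z := by
  have hx : x ∈ Submodule.span k {y, z} := by rw [← hs]; exact Submodule.subset_span (by simp)
  have hp : p ∈ Submodule.span k {y, z} := by rw [← hs]; exact Submodule.subset_span (by simp)
  obtain ⟨a, b, h1⟩ := Submodule.mem_span_pair.1 hx
  obtain ⟨c, d, h2⟩ := Submodule.mem_span_pair.1 hp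
  exact first_of_comb hT h h1.symm h2.symm

/-- the residual double line determines the line -/
theorem span_unique [IsAlgClosed k] [CharZero k] (hT : IsSym3 T) (hsm : SmoothOn T ⊤) {x p x' p' y z : Fin 5 → k}
    (hL : (x, p) ∈ FR T) (hL₁ : (x', p') ∈ FR T) (hL' : (y, z) ∈ FR T) (hx : x ∈ KK T y z) (hp : p ∈ KK T y z)
    (hx' : x' ∈ KK T y z) (hp' : p' ∈ KK T y z) (h1 : First T x p) (h1' : First T x' p') (h2 : ¬ First T y z) :
    Submodule.span k {x', p'} = Submodule.span k {x, p} := by
  have hinf : Infinite k := IsAlgClosed.instInfinite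
  have hne : Submodule.span k {x, p} ≠ Submodule.span k {y, z} := fun h => h2 (first_of_span hT h1 h)
  have hne' : Submodule.span k {x', p'} ≠ Submodule.span k {y, z} := fun h => h2 (first_of_span hT h1' h)
  have hle : Submodule.span k {x', p'} ≤ KK T y z := by
    rw [Submodule.span_le]
    rintro w (rfl | hw)
    · exact hx'
    · rw [Set.mem_singleton_iff.1 hw]; exact hp'
  obtain ⟨i, hi⟩ := exists_le_of_cover ![Submodule.span k {x, p}, Submodule.span k {y, z}]
    (Submodule.span k {x', p'}) (fun v hv => by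
      rcases zero_in_KK hT hsm hL hL' hx hp hne (hle hv) (line_zero hT hL₁ hv hv hv) with h | h
      · exact ⟨0, h⟩
      · exact ⟨1, h⟩)
  fin_cases i
  · exact Submodule.eq_of_le_of_finrank_eq hi (by rw [finrank_pair hL.1, finrank_pair hL₁.1])
  · exact absurd (Submodule.eq_of_le_of_finrank_eq
      (show Submodule.span k {x', p'} ≤ Submodule.span k {y, z} from hi)
      (by rw [finrank_pair hL'.1, finrank_pair hL₁.1])) hne'

/-- the residual double line -/
theorem exists_residual [IsAlgClosed k] [CharZero k] (hT : IsSym3 T) {x p q : Fin 5 → k} (hL : (x, p) ∈ FR T)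
    (h1 : First T x p) (hq : LinearIndependent k ![x, p, q]) {m : Fin 3 → k}
    (hG : G6 T x p q = (3 : k) • M6 m m) :
    ∃ y z, (y, z) ∈ FR T ∧ ¬ First T y z ∧ x ∈ KK T y z ∧ p ∈ KK T y z := by
  obtain ⟨-, e1, e2, e3, e4⟩ := hL
  simp only at e1 e2 e3 e4
  have h3 : (3 : k) ≠ 0 := by norm_num
  have h6 : (6 : k) ≠ 0 := by norm_num
  have h2 : (2 : k) ≠ 0 := by norm_num
  have g0 : T q x x = m 0 * m 0 := by
    have := congrFun hG 0
    simp only [G6, M6, Matrix.cons_val, Pi.smul_apply, smul_eq_mul] at this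
    exact mul_left_cancel₀ h3 this
  have g1 : T q p p = m 1 * m 1 := by
    have := congrFun hG 1
    simp only [G6, M6, Matrix.cons_val, Pi.smul_apply, smul_eq_mul] at this
    exact mul_left_cancel₀ h3 this
  have g2 : T q q q = 3 * (m 2 * m 2) := by
    have := congrFun hG 2
    simp only [G6, M6, Matrix.cons_val, Pi.smul_apply, smul_eq_mul] at this
    exact this
  have g3 : T q q p = 2 * (m 1 * m 2) := by
    have := congrFun hG 3
    simp only [G6, M6, Matrix.cons_val, Pi.smul_apply, smul_eq_mul] at this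
    apply mul_left_cancel₀ h3
    linear_combination this
  have g4 : T q q x = 2 * (m 0 * m 2) := by
    have := congrFun hG 4
    simp only [G6, M6, Matrix.cons_val, Pi.smul_apply, smul_eq_mul] at this
    apply mul_left_cancel₀ h3
    linear_combination this
  have g5 : T q x p = m 0 * m 1 := by
    have := congrFun hG 5
    simp only [G6, M6, Matrix.cons_val, Pi.smul_apply, smul_eq_mul] at this
    apply mul_left_cancel₀ h6
    linear_combination this
  have s1 : T x p x = 0 := by rw [hT.s23]; exact e2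
  have s2 : T p x x = 0 := by rw [hT.rot p x x]; exact e2
  have s3 : T p x p = 0 := by rw [hT.s12]; exact e3
  have s4 : T p p x = 0 := by rw [hT.rot' p p x]; exact e3
  have t1 : T x x q = m 0 * m 0 := by rw [hT.rot']; exact g0
  have t2 : T x q x = m 0 * m 0 := by rw [hT.s12]; exact g0
  have t3 : T p p q = m 1 * m 1 := by rw [hT.rot']; exact g1
  have t4 : T p q p = m 1 * m 1 := by rw [hT.s12]; exact g1
  have t5 : T x p q = m 0 * m 1 := by rw [hT.rot']; exact g5
  have t6 : T x q p = m 0 * m 1 := by rw [hT.s12]; exact g5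
  have t7 : T q p x = m 0 * m 1 := by rw [hT.s23]; exact g5
  have t8 : T p q x = m 0 * m 1 := by rw [hT.s12]; exact t7
  have t9 : T p x q = m 0 * m 1 := by rw [hT.s12]; exact t5
  have t10 : T x q q = 2 * (m 0 * m 2) := by rw [hT.rot]; exact g4
  have t11 : T q x q = 2 * (m 0 * m 2) := by rw [hT.s12]; exact t10
  have t12 : T p q q = 2 * (m 1 * m 2) := by rw [hT.rot]; exact g3
  have t13 : T q p q = 2 * (m 1 * m 2) := by rw [hT.s12]; exact t12
  have hm : m ≠ 0 := by
    rintro rfl
    refine no_three h1 hq fun i j => ?_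
    fin_cases i <;> fin_cases j <;> simp [e1, e2, e3, e4, s1, s4, t1, t3, t5]
  -- the products with the vectors of the line
  have key : ∀ c : Fin 3 → k, dot m c = 0 →
      T (c 0 • x + c 1 • p + c 2 • q) (c 0 • x + c 1 • p + c 2 • q) x = 0 ∧
      T (c 0 • x + c 1 • p + c 2 • q) (c 0 • x + c 1 • p + c 2 • q) p = 0 ∧
      T (c 0 • x + c 1 • p + c 2 • q) (c 0 • x + c 1 • p + c 2 • q) q = 0 := by
    intro c hc
    rw [dot_apply] at hc
    refine ⟨?_, ?_, ?_⟩
    · simp only [map_add, map_smul, LinearMap.add_apply, LinearMap.smul_apply, smul_eq_mul, e1, s1, s2, s4,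
        g0, g4, t2, t7, t8]
      linear_combination (2 * c 2 * m 0) * hc
    · simp only [map_add, map_smul, LinearMap.add_apply, LinearMap.smul_apply, smul_eq_mul, e2, e3, e4, s3,
        g1, g3, g5, t4, t6]
      linear_combination (2 * c 2 * m 1) * hc
    · simp only [map_add, map_smul, LinearMap.add_apply, LinearMap.smul_apply, smul_eq_mul, t1, t3, t5, t9, t10,
        t11, t12, t13, g2]
      linear_combination (m 0 * c 0 + m 1 * c 1 + 3 * m 2 * c 2) * hc
  have key2 : ∀ u ∈ lineOf ![x, p, q] m, ∀ v ∈ lineOf ![x, p, q] m, T u v x = 0 ∧ T u v p = 0 ∧ T u v q = 0 := by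
    intro u hu v hv
    have hq2 : ∀ u ∈ lineOf ![x, p, q] m, T u u x = 0 ∧ T u u p = 0 ∧ T u u q = 0 := by
      intro u hu
      obtain ⟨c, hc, rfl⟩ := mem_lineOf.1 hu
      simpa using key c hc
    have hpol : ∀ r, T u v r = (T (u + v) (u + v) r - T u u r - T v v r) / 2 := by
      intro r
      rw [eq_div_iff h2]
      simp only [map_add, LinearMap.add_apply]
      rw [hT.s12 v u r]
      ring
    obtain ⟨a1, a2, a3⟩ := hq2 u hu
    obtain ⟨b1, b2, b3⟩ := hq2 v hv
    obtain ⟨c1, c2, c3⟩ := hq2 (u + v) (add_mem hu hv)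
    refine ⟨?_, ?_, ?_⟩
    · rw [hpol, a1, b1, c1]; simp
    · rw [hpol, a2, b2, c2]; simp
    · rw [hpol, a3, b3, c3]; simp
  obtain ⟨i, hi⟩ : ∃ i, m i ≠ 0 := by
    by_contra hcon
    push Not at hcon
    exact hm (funext hcon)
  set y := fr ![x, p, q] m i (i + 1) with hy
  set z := fr ![x, p, q] m i (i + 2) with hz
  have hyz : LinearIndependent k ![y, z] := fr_linearIndependent hq hi
  have hym : y ∈ lineOf ![x, p, q] m := fr_mem _ _
  have hzm : z ∈ lineOf ![x, p, q] m := fr_mem _ _
  have hvan : ∀ u ∈ lineOf ![x, p, q] m, ∀ v ∈ lineOf ![x, p, q] m, ∀ w ∈ lineOf ![x, p, q] m, T u v w = 0 := by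
    intro u hu v hv w hw
    obtain ⟨a1, a2, a3⟩ := key2 u hu v hv
    obtain ⟨c, hc, rfl⟩ := mem_lineOf.1 hw
    simp only [Matrix.cons_val, map_add, map_smul, smul_eq_mul, a1, a2, a3]
    ring
  obtain ⟨a1, a2, a3⟩ := key2 y hym y hym
  obtain ⟨b1, b2, b3⟩ := key2 y hym z hzm
  obtain ⟨c1, c2, c3⟩ := key2 z hzm z hzm
  refine ⟨y, z, ⟨hyz, hvan _ hym _ hym _ hym, hvan _ hym _ hym _ hzm, hvan _ hym _ hzm _ hzm,
    hvan _ hzm _ hzm _ hzm⟩, ?_, mem_KK.2 ⟨a1, b1, c1⟩, mem_KK.2 ⟨a2, b2, c2⟩⟩
  intro hF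
  refine no_three hF hq fun i j => ?_
  fin_cases i <;> fin_cases j <;> simp only [Fin.zero_eta, Fin.mk_one, Fin.reduceFinMk, Matrix.cons_val] <;>
    assumption

end K913.BadGeo
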