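import Groth.Agent.Fano.K705.IncDef
import Groth.Agent.Fano.K714.TypeConst2
import Groth.Agent.Fano.K714.FrIrr

/-!
# Planes cutting a cubic threefold in a line and a double line (S16526, job 441)

* `sq_iff`: the residual conic of `⟨x, p, q⟩` is a double line iff its coefficient vector is `3 M6 m m`.
* `mi`: the `2 × 2` minors of a ternary quadratic form; `mi_eq_zero_iff`.
* `first_of_span`, `noDbl_of_comb`: `First` and `NoDbl` depend only on the line.
* `isZOpen_good`: `First` and `NoDbl` is an open condition.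
-/

set_option autoImplicit false

universe u

namespace K913.Dbl

open LefPen Groth.Agent.Lefpen.H703.ZOpen Groth.Agent.Lefpen.H703.Elim Module K714.Irr K714.Frames K470.Cur
  K656.Trilin K714.Surf K714.PlaneFac K714.TypeConst K705.IncDef

variable {k : Type u} [Field k]

/-- independence from spans -/
theorem li_of_span {E : Type*} [AddCommGroup E] [Module k E] {n : ℕ} {v w : Fin n → E}
    (hw : LinearIndependent k w) (h : ∀ i, w i ∈ Submodule.span k (Set.range v)) : LinearIndependent k v := by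
  rw [linearIndependent_iff_card_le_finrank_span]
  rw [linearIndependent_iff_card_le_finrank_span] at hw
  refine hw.trans ?_
  have hle : Submodule.span k (Set.range w) ≤ Submodule.span k (Set.range v) := by
    rw [Submodule.span_le]
    rintro _ ⟨i, rfl⟩
    exact h i
  have : FiniteDimensional k ↥(Submodule.span k (Set.range v)) :=
    FiniteDimensional.span_of_finite k (Set.finite_range v)
  exact Submodule.finrank_mono hle

/-- the `2 × 2` minors of a ternary quadratic form -/
def mi (G : Fin 6 → k) : Fin 6 → k :=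
  ![4 * G 0 * G 1 - G 5 ^ 2, 4 * G 0 * G 2 - G 4 ^ 2, 4 * G 1 * G 2 - G 3 ^ 2, 2 * G 0 * G 3 - G 4 * G 5,
    2 * G 1 * G 4 - G 3 * G 5, 2 * G 2 * G 5 - G 3 * G 4]

theorem mi_sq (m : Fin 3 → k) (i : Fin 6) : mi ((3 : k) • M6 m m) i = 0 := by
  fin_cases i <;> simp [mi, M6] <;> ring

theorem exists_sq [IsAlgClosed k] [CharZero k] {G : Fin 6 → k} (h : ∀ i, mi G i = 0) :
    ∃ m : Fin 3 → k, G = (3 : k) • M6 m m := by
  have h3 : (3 : k) ≠ 0 := by norm_num
  have h12 : (12 : k) ≠ 0 := by norm_num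
  have h6 : (6 : k) ≠ 0 := by norm_num
  have e0 := h 0
  have e1 := h 1
  have e2 := h 2
  have e3 := h 3
  have e4 := h 4
  have e5 := h 5
  simp only [mi, Matrix.cons_val] at e0 e1 e2 e3 e4 e5
  by_cases hG0 : G 0 = 0
  · rw [hG0] at e0 e1 e3
    have g5 : G 5 = 0 := by
      have : G 5 ^ 2 = 0 := by linear_combination -e0
      exact pow_eq_zero_iff (two_ne_zero) |>.1 this
    have g4 : G 4 = 0 := by
      have : G 4 ^ 2 = 0 := by linear_combination -e1
      exact pow_eq_zero_iff (two_ne_zero) |>.1 this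
    by_cases hG1 : G 1 = 0
    · rw [hG1] at e2
      have g3 : G 3 = 0 := by
        have : G 3 ^ 2 = 0 := by linear_combination -e2
        exact pow_eq_zero_iff (two_ne_zero) |>.1 this
      obtain ⟨s, hs⟩ := IsAlgClosed.exists_pow_nat_eq (G 2 / 3) (n := 2) (by norm_num)
      have hs' : 3 * s ^ 2 = G 2 := by rw [hs]; field_simp
      refine ⟨![0, 0, s], ?_⟩
      funext i
      fin_cases i
      · simp [M6, hG0]
      · simp [M6, hG1]
      · simp [M6]; linear_combination -hs'
      · simp [M6, g3]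
      · simp [M6, g4]
      · simp [M6, g5]
    · obtain ⟨s, hs⟩ := IsAlgClosed.exists_pow_nat_eq (G 1 / 3) (n := 2) (by norm_num)
      have hs' : 3 * s ^ 2 = G 1 := by rw [hs]; field_simp
      have hs0 : s ≠ 0 := by
        rintro rfl
        apply hG1
        rw [← hs']
        simp
      obtain ⟨r, hr⟩ : ∃ r, 6 * s * r = G 3 := ⟨G 3 / (6 * s), by field_simp⟩
      refine ⟨![0, s, r], ?_⟩
      funext i
      fin_cases i
      · simp [M6, hG0]
      · simp [M6]; linear_combination -hs'
      · simp [M6]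
        apply mul_left_cancel₀ (mul_ne_zero h12 (pow_ne_zero 2 hs0))
        rw [← hs', ← hr] at e2
        linear_combination e2
      · simp [M6]
        linear_combination -hr
      · simp [M6, g4]
      · simp [M6, g5]
  · obtain ⟨s, hs⟩ := IsAlgClosed.exists_pow_nat_eq (G 0 / 3) (n := 2) (by norm_num)
    have hs' : 3 * s ^ 2 = G 0 := by rw [hs]; field_simp
    have hs0 : s ≠ 0 := by
      rintro rfl
      apply hG0
      rw [← hs']
      simp
    obtain ⟨r, hr⟩ : ∃ r, 6 * s * r = G 5 := ⟨G 5 / (6 * s), by field_simp⟩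
    obtain ⟨t, ht⟩ : ∃ t, 6 * s * t = G 4 := ⟨G 4 / (6 * s), by field_simp⟩
    rw [← hs', ← hr] at e0
    rw [← hs', ← ht] at e1
    rw [← hs', ← hr, ← ht] at e3
    refine ⟨![s, r, t], ?_⟩
    funext i
    fin_cases i
    · simp [M6]; linear_combination -hs'
    · simp [M6]
      apply mul_left_cancel₀ (mul_ne_zero h12 (pow_ne_zero 2 hs0))
      linear_combination e0
    · simp [M6]
      apply mul_left_cancel₀ (mul_ne_zero h12 (pow_ne_zero 2 hs0))
      linear_combination e1
    · simp [M6]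
      apply mul_left_cancel₀ (mul_ne_zero h6 (pow_ne_zero 2 hs0))
      linear_combination e3
    · simp [M6]
      linear_combination -ht
    · simp [M6]
      linear_combination -hr

variable {T : (Fin 5 → k) →ₗ[k] (Fin 5 → k) →ₗ[k] (Fin 5 → k) →ₗ[k] k}

/-- the residual conic is a double line -/
theorem sq_iff [CharZero k] (hT : IsSym3 T) {x p : Fin 5 → k} (hL : (x, p) ∈ FR T) (q : Fin 5 → k) (l m n : k) :
    (∀ u v w : k, T (u • x + v • p + w • q) (u • x + v • p + w • q) (u • x + v • p + w • q) =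
      3 * w * (l * u + m * v + n * w) ^ 2) ↔ G6 T x p q = (3 : k) • M6 ![l, m, n] ![l, m, n] := by
  obtain ⟨-, h1, h2, h3, h4⟩ := hL
  have hev := eval_plane hT h1 h2 h3 h4 q
  constructor
  · intro h
    refine Q6_ext fun c hc => ?_
    apply mul_left_cancel₀ hc
    rw [← hev c, h, Q6_smul, Q6_M6, dot_apply]
    simp only [Matrix.cons_val]
    ring
  · intro h u v w
    have := hev ![u, v, w]
    simp only [Matrix.cons_val] at this
    rw [this, h, Q6_smul, Q6_M6, dot_apply]
    simp only [Matrix.cons_val]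
    ring


theorem mem_span_three {E : Type*} [AddCommGroup E] [Module k E] {f g h v : E} (a b c : k)
    (hv : v = a • f + b • g + c • h) : v ∈ Submodule.span k (Set.range ![f, g, h]) := by
  rw [Submodule.mem_span_range_iff_exists_fun]
  exact ⟨![a, b, c], by rw [Fin.sum_univ_three, hv]; simp only [Matrix.cons_val]⟩

/-- `First` depends only on the line -/
theorem first_of_comb (hT : IsSym3 T) {x p x' p' : Fin 5 → k} (h : First T x p) {a b c d : k}
    (hx : x = a • x' + b • p') (hp : p = c • x' + d • p') : First T x' p' := by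
  have h21 : T p' x' = T x' p' := LinearMap.ext fun v => hT.s12 _ _ _
  refine li_of_span h fun i => ?_
  fin_cases i
  · refine mem_span_three (a ^ 2) (2 * a * b) (b ^ 2) ?_
    simp only [Fin.zero_eta, Matrix.cons_val_zero]
    rw [hx]
    simp only [map_add, map_smul, LinearMap.add_apply, LinearMap.smul_apply, h21]
    module
  · refine mem_span_three (a * c) (a * d + b * c) (b * d) ?_
    simp only [Fin.mk_one, Matrix.cons_val_one, Matrix.cons_val_zero]
    rw [hx, hp]
    simp only [map_add, map_smul, LinearMap.add_apply, LinearMap.smul_apply, h21]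
    module
  · refine mem_span_three (c ^ 2) (2 * c * d) (d ^ 2) ?_
    simp only [Fin.reduceFinMk, Matrix.cons_val]
    rw [hp]
    simp only [map_add, map_smul, LinearMap.add_apply, LinearMap.smul_apply, h21]
    module

/-- `NoDbl` depends only on the line -/
theorem noDbl_of_comb {x p x' p' : Fin 5 → k} (h : NoDbl T x p) {a b c d a' b' c' d' : k}
    (hx : x = a • x' + b • p') (hp : p = c • x' + d • p') (hx' : x' = a' • x + b' • p)
    (hp' : p' = c' • x + d' • p) : NoDbl T x' p' := by
  rintro q hq ⟨l, m, n, H⟩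
  refine h q (li_of_span hq fun i => ?_) ⟨l * a + m * b, l * c + m * d, n, fun u v w => ?_⟩
  · fin_cases i
    · refine mem_span_three a' b' 0 ?_
      simp only [Fin.zero_eta, Matrix.cons_val_zero]
      rw [hx']; module
    · refine mem_span_three c' d' 0 ?_
      simp only [Fin.mk_one, Matrix.cons_val_one, Matrix.cons_val_zero]
      rw [hp']; module
    · refine mem_span_three 0 0 1 ?_
      simp only [Fin.reduceFinMk, Matrix.cons_val]
      module
  · have h1 := H (u * a + v * c) (u * b + v * d) w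
    have h2 : u • x + v • p + w • q = (u * a + v * c) • x' + (u * b + v * d) • p' + w • q := by
      rw [hx, hp]; module
    rw [h2, h1]
    ring

/-- change of frame -/
theorem mem_FR (hT : IsSym3 T) {x p : Fin 5 → k} (hL : (x, p) ∈ FR T) {a b c d : k} (hd : a * d - b * c ≠ 0) :
    (a • x + b • p, c • x + d • p) ∈ FR T := by
  obtain ⟨h0, h1, h2, h3, h4⟩ := hL
  simp only at h0 h1 h2 h3 h4
  have s1 : T x p x = 0 := by rw [hT.s23]; exact h2
  have s2 : T p x x = 0 := by rw [hT.rot p x x]; exact h2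
  have s3 : T p x p = 0 := by rw [hT.s12]; exact h3
  have s4 : T p p x = 0 := by rw [hT.rot' p p x]; exact h3
  have hli : LinearIndependent k ![a • x + b • p, c • x + d • p] :=
    (LinearIndependent.pair_add_smul_add_smul_iff a b c d).2 ⟨h0, fun h => hd (by rw [h]; ring)⟩
  refine ⟨hli, ?_, ?_, ?_, ?_⟩ <;>
  · simp only [map_add, map_smul, LinearMap.add_apply, LinearMap.smul_apply, smul_eq_mul, h1, h2, h3, h4,
      s1, s2, s3, s4]
    ring

/-- the set of frames which are not bad -/
def Gd (T : (Fin 5 → k) →ₗ[k] (Fin 5 → k) →ₗ[k] (Fin 5 → k) →ₗ[k] k) : Set ((Fin 5 → k) × (Fin 5 → k)) :=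
  {z | LinearIndependent k ![z.1, z.2] ∧ (z ∈ FR T → First T z.1 z.2 ∧ NoDbl T z.1 z.2)}

theorem gd_of_comb (hT : IsSym3 T) {x p : Fin 5 → k} (hL : (x, p) ∈ FR T) {a b c d : k} (hd : a * d - b * c ≠ 0)
    (h : (a • x + b • p, c • x + d • p) ∈ Gd T) : (x, p) ∈ Gd T := by
  refine ⟨hL.1, fun _ => ?_⟩
  obtain ⟨-, h2⟩ := h
  obtain ⟨h3, h4⟩ := h2 (mem_FR hT hL hd)
  have hx : x = (d / (a * d - b * c)) • (a • x + b • p) + (-b / (a * d - b * c)) • (c • x + d • p) := by
    have e1 : d / (a * d - b * c) * a + -b / (a * d - b * c) * c = 1 := by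
      have h : d / (a * d - b * c) * a + -b / (a * d - b * c) * c = (a * d - b * c) / (a * d - b * c) := by ring
      rw [h, div_self hd]
    have e2 : d / (a * d - b * c) * b + -b / (a * d - b * c) * d = 0 := by ring
    calc x = (1 : k) • x + (0 : k) • p := by module
      _ = _ := by rw [← e1, ← e2]; module
  have hp : p = (-c / (a * d - b * c)) • (a • x + b • p) + (a / (a * d - b * c)) • (c • x + d • p) := by
    have e1 : -c / (a * d - b * c) * a + a / (a * d - b * c) * c = 0 := by ring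
    have e2 : -c / (a * d - b * c) * b + a / (a * d - b * c) * d = 1 := by
      have h : -c / (a * d - b * c) * b + a / (a * d - b * c) * d = (a * d - b * c) / (a * d - b * c) := by ring
      rw [h, div_self hd]
    calc p = (0 : k) • x + (1 : k) • p := by module
      _ = _ := by rw [← e1, ← e2]; module
  exact ⟨first_of_comb hT h3 rfl rfl, noDbl_of_comb h4 rfl rfl hx hp⟩

section Open

/-- the dual space in coordinates -/
noncomputable def dualE (k : Type u) [Field k] : ((Fin 5 → k) →ₗ[k] k) ≃ₗ[k] (Fin 5 → k) :=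
  LinearEquiv.ofLinearMap (LinearMap.pi fun i => (LinearMap.applyₗ (R := k) (Pi.single i 1)))
    (∑ i : Fin 5, (LinearMap.toSpanSingleton k ((Fin 5 → k) →ₗ[k] k) (LinearMap.proj i)).comp (LinearMap.proj i))
    (by
      refine LinearMap.ext fun c => funext fun j => ?_
      simp [Pi.single_apply])
    (by
      refine LinearMap.ext fun f => LinearMap.pi_ext' fun j => ?_
      ext
      simp [Pi.single_apply])

theorem dualE_apply (f : (Fin 5 → k) →ₗ[k] k) (i : Fin 5) : dualE k f i = f (Pi.single i 1) := rfl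

theorem pm_T2 {X : Type u} [AddCommGroup X] [Module k X] {φ ψ : X → Fin 5 → k} (hφ : IsPolyMap k φ)
    (hψ : IsPolyMap k ψ) : IsPolyMap k (fun z => T (φ z) (ψ z)) := by
  have h : (fun z => T (φ z) (ψ z)) = fun z => (dualE k).symm (fun i => T (φ z) (ψ z) (Pi.single i 1)) := by
    funext z
    apply (dualE k).injective
    rw [LinearEquiv.apply_symm_apply]
    rfl
  rw [h]
  exact pm_comp (isPolyMap_linear (dualE k).symm.toLinearMap)
    (isPolyMap_pi.2 fun i => pf_tri T hφ hψ (isPolyMap_const _))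

theorem isZOpen_first : IsZOpen k {z : (Fin 5 → k) × (Fin 5 → k) | First T z.1 z.2} := by
  have h := K713.RangeOpen.isZOpen_linearIndependent (k := k)
    (V := (Fin 5 → k) × (Fin 5 → k)) (W := (Fin 5 → k) →ₗ[k] k) (r := 3)
    ![fun z => T z.1 z.1, fun z => T z.1 z.2, fun z => T z.2 z.2] (by
      intro i
      fin_cases i
      · exact pm_T2 isPolyMap_fst isPolyMap_fst
      · exact pm_T2 isPolyMap_fst isPolyMap_snd
      · exact pm_T2 isPolyMap_snd isPolyMap_snd)
  refine (isZOpen_congr fun z => ?_).1 h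
  have : (fun i => (![fun z => T z.1 z.1, fun z => T z.1 z.2, fun z => T z.2 z.2] :
      Fin 3 → (Fin 5 → k) × (Fin 5 → k) → _) i z) = ![T z.1 z.1, T z.1 z.2, T z.2 z.2] := by
    funext i
    fin_cases i <;> rfl
  simp only [Set.mem_ofPred_eq, this, First]

theorem mi_G6_smul (x p q : Fin 5 → k) {c : k} (hc : c ≠ 0) (i : Fin 6) (h : mi (G6 T x p q) i ≠ 0) :
    mi (G6 T x p (c • q)) i ≠ 0 := by
  have key : ∃ e : ℕ, mi (G6 T x p (c • q)) i = c ^ e * mi (G6 T x p q) i := by
    fin_cases i
    · exact ⟨2, by simp [mi, G6]; ring⟩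
    · exact ⟨4, by simp [mi, G6]; ring⟩
    · exact ⟨4, by simp [mi, G6]; ring⟩
    · exact ⟨3, by simp [mi, G6]; ring⟩
    · exact ⟨3, by simp [mi, G6]; ring⟩
    · exact ⟨4, by simp [mi, G6]; ring⟩
  obtain ⟨e, he⟩ := key
  rw [he]
  exact mul_ne_zero (pow_ne_zero _ hc) h

theorem pf_G6 {X : Type u} [AddCommGroup X] [Module k X] {φ ψ χ : X → Fin 5 → k} (hφ : IsPolyMap k φ)
    (hψ : IsPolyMap k ψ) (hχ : IsPolyMap k χ) (i : Fin 6) : IsPolyFun k (fun z => G6 T (φ z) (ψ z) (χ z) i) := by
  fin_cases i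
  · exact pf_const_mul _ (pf_tri T hχ hφ hφ)
  · exact pf_const_mul _ (pf_tri T hχ hψ hψ)
  · exact pf_tri T hχ hχ hχ
  · exact pf_const_mul _ (pf_tri T hχ hχ hψ)
  · exact pf_const_mul _ (pf_tri T hχ hχ hφ)
  · exact pf_const_mul _ (pf_tri T hχ hφ hψ)

theorem pf_mi {X : Type u} [AddCommGroup X] [Module k X] {G : X → Fin 6 → k}
    (hG : ∀ i, IsPolyFun k (fun z => G z i)) (i : Fin 6) : IsPolyFun k (fun z => mi (G z) i) := by
  fin_cases i
  · exact pf_sub (pf_mul (pf_const_mul _ (hG 0)) (hG 1)) (pf_pow (hG 5) 2)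
  · exact pf_sub (pf_mul (pf_const_mul _ (hG 0)) (hG 2)) (pf_pow (hG 4) 2)
  · exact pf_sub (pf_mul (pf_const_mul _ (hG 1)) (hG 2)) (pf_pow (hG 3) 2)
  · exact pf_sub (pf_mul (pf_const_mul _ (hG 0)) (hG 3)) (pf_mul (hG 4) (hG 5))
  · exact pf_sub (pf_mul (pf_const_mul _ (hG 1)) (hG 4)) (pf_mul (hG 3) (hG 5))
  · exact pf_sub (pf_mul (pf_const_mul _ (hG 2)) (hG 5)) (pf_mul (hG 3) (hG 4))

theorem map_three {E : Type*} [AddCommGroup E] [Module k E] (ι : (Fin 3 → k) →ₗ[k] E) (c : Fin 3 → k) :
    ι c = c 0 • ι (Pi.single 0 1) + c 1 • ι (Pi.single 1 1) + c 2 • ι (Pi.single 2 1) := by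
  rw [← map_smul, ← map_smul, ← map_smul, ← map_add, ← map_add]
  congr 1
  funext i
  fin_cases i <;> simp

/-- a complement of a line -/
theorem exists_compl {x p : Fin 5 → k} (h : LinearIndependent k ![x, p]) :
    ∃ ι : (Fin 3 → k) →ₗ[k] (Fin 5 → k),
      LinearIndependent k ![x, p, ι (Pi.single 0 1), ι (Pi.single 1 1), ι (Pi.single 2 1)] := by
  have hfin := finrank_span_eq_card h
  rw [Fintype.card_fin] at hfin
  obtain ⟨C, hC⟩ := Submodule.exists_isCompl (Submodule.span k (Set.range ![x, p]))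
  have hCf : finrank k ↥C = 3 := by
    have := Submodule.finrank_add_eq_of_isCompl hC
    rw [hfin, finrank_fin_fun] at this
    omega
  let bC : Basis (Fin 3) k ↥C := finBasisOfFinrankEq k ↥C hCf
  let ι : (Fin 3 → k) →ₗ[k] (Fin 5 → k) := C.subtype.comp bC.equivFun.symm.toLinearMap
  have hι : ∀ v ∈ C, ∃ c, ι c = v := fun v hv => ⟨bC.equivFun ⟨v, hv⟩, by simp [ι]⟩
  refine ⟨ι, linearIndependent_of_top_le_span_of_card_eq_finrank ?_ (by simp)⟩
  rw [← hC.sup_eq_top, sup_le_iff]
  constructor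
  · rw [Submodule.span_le]
    rintro _ ⟨i, rfl⟩
    fin_cases i
    · exact Submodule.subset_span ⟨0, rfl⟩
    · exact Submodule.subset_span ⟨1, rfl⟩
  · intro v hv
    obtain ⟨c, hcv⟩ := hι v hv
    rw [← hcv, map_three ι c]
    have m2 : ι (Pi.single 0 1) ∈ Submodule.span k
      (Set.range ![x, p, ι (Pi.single 0 1), ι (Pi.single 1 1), ι (Pi.single 2 1)]) := Submodule.subset_span ⟨2, rfl⟩
    have m3 : ι (Pi.single 1 1) ∈ Submodule.span k
      (Set.range ![x, p, ι (Pi.single 0 1), ι (Pi.single 1 1), ι (Pi.single 2 1)]) := Submodule.subset_span ⟨3, rfl⟩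
    have m4 : ι (Pi.single 2 1) ∈ Submodule.span k
      (Set.range ![x, p, ι (Pi.single 0 1), ι (Pi.single 1 1), ι (Pi.single 2 1)]) := Submodule.subset_span ⟨4, rfl⟩
    exact Submodule.add_mem _ (Submodule.add_mem _ (Submodule.smul_mem _ _ m2)
      (Submodule.smul_mem _ _ m3)) (Submodule.smul_mem _ _ m4)

/-- vectors in terms of a complement -/
theorem exists_comb {ι : (Fin 3 → k) →ₗ[k] (Fin 5 → k)} {x p : Fin 5 → k}
    (h : LinearIndependent k ![x, p, ι (Pi.single 0 1), ι (Pi.single 1 1), ι (Pi.single 2 1)])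
    (q : Fin 5 → k) : ∃ (a b : k) (c : Fin 3 → k), q = a • x + b • p + ι c := by
  have h1 := h.span_eq_top_of_card_eq_finrank (by simp)
  have h2 : q ∈ Submodule.span k (Set.range ![x, p, ι (Pi.single 0 1), ι (Pi.single 1 1), ι (Pi.single 2 1)]) := by
    rw [h1]; trivial
  obtain ⟨d, hd⟩ := (Submodule.mem_span_range_iff_exists_fun k).1 h2
  refine ⟨d 0, d 1, ![d 2, d 3, d 4], ?_⟩
  rw [← hd, Fin.sum_univ_five, map_three ι ![d 2, d 3, d 4]]
  simp only [Matrix.cons_val]
  abel

theorem li_three {ι : (Fin 3 → k) →ₗ[k] (Fin 5 → k)} {x p : Fin 5 → k}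
    (h : LinearIndependent k ![x, p, ι (Pi.single 0 1), ι (Pi.single 1 1), ι (Pi.single 2 1)])
    {c : Fin 3 → k} (hc : c ≠ 0) : LinearIndependent k ![x, p, ι c] := by
  rw [Fintype.linearIndependent_iff] at h ⊢
  intro g hg
  have h1 := h ![g 0, g 1, g 2 * c 0, g 2 * c 1, g 2 * c 2] (by
    rw [← hg, Fin.sum_univ_five, Fin.sum_univ_three]
    simp only [Matrix.cons_val]
    rw [map_three ι c]
    module)
  have e0 := h1 0
  have e1 := h1 1
  have e2 := h1 2
  have e3 := h1 3
  have e4 := h1 4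
  simp only [Matrix.cons_val] at e0 e1 e2 e3 e4
  have e5 : g 2 = 0 := by
    by_contra h2
    apply hc
    funext i
    fin_cases i
    · exact (mul_eq_zero.1 e2).resolve_left h2
    · exact (mul_eq_zero.1 e3).resolve_left h2
    · exact (mul_eq_zero.1 e4).resolve_left h2
  intro i
  fin_cases i
  · exact e0
  · exact e1
  · exact e5

theorem li_two {E : Type*} [AddCommGroup E] [Module k E] {x p q : E}
    (h : LinearIndependent k ![x, p, q]) : LinearIndependent k ![x, p] := by
  rw [LinearIndependent.pair_iff]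
  rw [Fintype.linearIndependent_iff] at h
  intro s t hst
  have h1 := h ![s, t, 0] (by
    rw [Fin.sum_univ_three]
    simp only [Matrix.cons_val]
    rw [hst]; simp)
  exact ⟨h1 0, h1 1⟩

theorem not_li_comb {E : Type*} [AddCommGroup E] [Module k E] {x p : E} (a b : k)
    (h : LinearIndependent k ![x, p, a • x + b • p]) : False := by
  rw [Fintype.linearIndependent_iff] at h
  have h1 := h ![a, b, -1] (by
    rw [Fin.sum_univ_three]
    simp only [Matrix.cons_val]
    module)
  have := h1 2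
  simp at this

/-- goodness is an open condition -/
theorem isZOpen_gd [IsAlgClosed k] [CharZero k] (hT : IsSym3 T) : IsZOpen k (Gd T) := by
  refine isZOpen_of_local ?_
  rintro ⟨x₀, p₀⟩ ⟨h0, h1⟩
  by_cases hFR : (x₀, p₀) ∈ FR T
  · obtain ⟨hf, hn⟩ := h1 hFR
    obtain ⟨ι, hι⟩ := exists_compl h0
    have o1 : IsZOpen k {z : (Fin 5 → k) × (Fin 5 → k) | LinearIndependent k
        ![z.1, z.2, ι (Pi.single 0 1), ι (Pi.single 1 1), ι (Pi.single 2 1)]} := by
      have h := K713.RangeOpen.isZOpen_linearIndependent (k := k)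
        (V := (Fin 5 → k) × (Fin 5 → k)) (W := Fin 5 → k) (r := 5)
        ![fun z => z.1, fun z => z.2, fun _ => ι (Pi.single 0 1), fun _ => ι (Pi.single 1 1),
          fun _ => ι (Pi.single 2 1)] (by
          intro i
          fin_cases i
          · exact isPolyMap_fst
          · exact isPolyMap_snd
          · exact isPolyMap_const _
          · exact isPolyMap_const _
          · exact isPolyMap_const _)
      refine (isZOpen_congr fun z => ?_).1 h
      have : (fun i => (![fun z => z.1, fun z => z.2, fun _ => ι (Pi.single 0 1), fun _ => ι (Pi.single 1 1),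
          fun _ => ι (Pi.single 2 1)] : Fin 5 → (Fin 5 → k) × (Fin 5 → k) → Fin 5 → k) i z) =
          ![z.1, z.2, ι (Pi.single 0 1), ι (Pi.single 1 1), ι (Pi.single 2 1)] := by
        funext i
        fin_cases i <;> rfl
      simp only [Set.mem_ofPred_eq, this]
    have o2 := isZOpen_first (T := T)
    have o3 : IsZOpen k {z : (Fin 5 → k) × (Fin 5 → k) | ∀ c : Fin 3 → k, c ≠ 0 →
        (c, z) ∈ {w : (Fin 3 → k) × ((Fin 5 → k) × (Fin 5 → k)) | ∃ i, mi (G6 T w.2.1 w.2.2 (ι w.1)) i ≠ 0}} := by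
      refine isZOpen_forall_ne_zero (isZOpen_compl_zeros fun i => pf_mi (fun j => pf_G6 ?_ ?_ ?_ j) i) ?_
      · exact isPolyMap_linear ((LinearMap.fst k _ _).comp (LinearMap.snd k (Fin 3 → k) ((Fin 5 → k) × (Fin 5 → k))))
      · exact isPolyMap_linear ((LinearMap.snd k _ _).comp (LinearMap.snd k (Fin 3 → k) ((Fin 5 → k) × (Fin 5 → k))))
      · exact isPolyMap_linear (ι.comp (LinearMap.fst k (Fin 3 → k) ((Fin 5 → k) × (Fin 5 → k))))
      · rintro c ⟨x, p⟩ t ht ⟨i, hi⟩
        refine ⟨i, ?_⟩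
        simp only [map_smul] at hi ⊢
        exact mi_G6_smul _ _ _ ht i hi
    refine ⟨_, zo_inter (zo_inter o1 o2) o3, ⟨⟨hι, hf⟩, ?_⟩, ?_⟩
    · intro c hc
      by_contra hcon
      simp only [Set.mem_ofPred_eq] at hcon
      push Not at hcon
      obtain ⟨m, hm⟩ := exists_sq hcon
      refine hn (ι c) (li_three hι hc) ⟨m 0, m 1, m 2, (sq_iff hT hFR _ _ _ _).2 ?_⟩
      have hm' : ![m 0, m 1, m 2] = m := by
        funext i
        fin_cases i <;> rfl
      rw [hm']
      exact hm
    · rintro ⟨x, p⟩ ⟨⟨g1, g2⟩, g3⟩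
      simp only [Set.mem_ofPred_eq] at g1 g2 g3
      refine ⟨?_, fun hL => ⟨g2, ?_⟩⟩
      · exact li_two (li_three g1 (c := Pi.single 0 1) (by
          intro h
          simpa using congrFun h 0))
      rintro q hq ⟨l, m, n, H⟩
      obtain ⟨a, b, c, hqc⟩ := exists_comb g1 q
      have hc : c ≠ 0 := by
        rintro rfl
        rw [map_zero, add_zero] at hqc
        rw [hqc] at hq
        exact not_li_comb a b hq
      obtain ⟨i, hi⟩ := g3 c hc
      apply hi
      have h5 : G6 T x p (ι c) = (3 : k) • M6 ![l, m, n - l * a - m * b] ![l, m, n - l * a - m * b] := by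
        refine (sq_iff hT hL _ _ _ _).1 fun u v w => ?_
        have h6 : u • x + v • p + w • ι c = (u - w * a) • x + (v - w * b) • p + w • q := by
          rw [hqc]; module
        rw [h6, H]
        ring
      rw [h5]
      exact mi_sq _ _
  · have o1 := isZOpen_indep (k := k)
    have o2 : IsZOpen k {z : (Fin 5 → k) × (Fin 5 → k) | ∃ i : Fin 4,
        (![fun z => T z.1 z.1 z.1, fun z => T z.1 z.1 z.2, fun z => T z.1 z.2 z.2, fun z => T z.2 z.2 z.2] :
          Fin 4 → ((Fin 5 → k) × (Fin 5 → k)) → k) i z ≠ 0} := by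
      refine isZOpen_compl_zeros fun i => ?_
      fin_cases i
      · exact pf_tri T isPolyMap_fst isPolyMap_fst isPolyMap_fst
      · exact pf_tri T isPolyMap_fst isPolyMap_fst isPolyMap_snd
      · exact pf_tri T isPolyMap_fst isPolyMap_snd isPolyMap_snd
      · exact pf_tri T isPolyMap_snd isPolyMap_snd isPolyMap_snd
    refine ⟨_, zo_inter o1 o2, ⟨h0, ?_⟩, ?_⟩
    · by_contra hcon
      simp only [Set.mem_ofPred_eq] at hcon
      push Not at hcon
      exact hFR ⟨h0, hcon 0, hcon 1, hcon 2, hcon 3⟩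
    · rintro z ⟨g1, ⟨i, hi⟩⟩
      refine ⟨g1, fun hz => absurd ?_ hi⟩
      obtain ⟨-, f1, f2, f3, f4⟩ := hz
      fin_cases i
      · exact f1
      · exact f2
      · exact f3
      · exact f4

end Open

end K913.Dbl
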