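import Groth.Agent.Fano.K913.BadProper
import Groth.Agent.Fano.K705.IncIrr
import Groth.Agent.Fano.K332.FirstT

/-!
# The curve of lines meeting a general line of a smooth cubic threefold is irreducible (job 441, PlanLine.exists_irr_inc)
-/

set_option autoImplicit false

universe u

namespace K913.IncGen

open LefPen Groth.Agent.Lefpen.H703.ZOpen Module K714.Irr K714.Frames K470.Cur K656.Trilin K714.Surf

variable {k : Type u} [Field k] [IsAlgClosed k] [CharZero k]
variable {T : (Fin 5 → k) →ₗ[k] (Fin 5 → k) →ₗ[k] (Fin 5 → k) →ₗ[k] k}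

/-- **(L3)** the curve of lines meeting a general line is irreducible -/
theorem exists_irr_inc (hT : IsSym3 T) (hsm : SmoothOn T ⊤) :
    ∃ B : Set ((Fin 5 → k) × (Fin 5 → k)), IsZOpen k Bᶜ ∧
      (∀ x p : Fin 5 → k, (x, p) ∈ FR T → (x, p) ∈ B → ∀ a b c d : k, a * d - b * c ≠ 0 →
        (a • x + b • p, c • x + d • p) ∈ B) ∧
      ¬ FR T ⊆ B ∧ ∀ x p : Fin 5 → k, (x, p) ∈ FR T → (x, p) ∉ B → Irr k (Inc T x p) :=
  K913.BadProper.exists_irr_inc_of hT hsm (K332.FirstT.exists_first hT hsm)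
    (fun _ _ hL h1 h2 => K705.IncIrr.irr_inc_of hT hsm hL h1 h2)

end K913.IncGen
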